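import Groth.Agent.Flat2H.FSSmoothHom
import Mathlib.RingTheory.Ideal.Quotient.Operations

/-!
# Infinitesimal lifting along surjections with square-zero kernel
-/

set_option autoImplicit false
universe u

open CategoryTheory AlgebraicGeometry

namespace Groth.Agent.Lefpen.H613.SqLift

/-- Lifting along a surjection with square-zero kernel. -/
theorem exists_lift {X Y : Scheme.{u}} (f : X ⟶ Y) [Smooth f] {A B : Type u} [CommRing A] [CommRing B]
    (π : A →+* B) (hπ : Function.Surjective π) (hk : RingHom.ker π ^ 2 = ⊥)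
    (a : Spec (CommRingCat.of B) ⟶ X) (b : Spec (CommRingCat.of A) ⟶ Y)
    (h : Spec.map (CommRingCat.ofHom π) ≫ b = a ≫ f) :
    ∃ l : Spec (CommRingCat.of A) ⟶ X, Spec.map (CommRingCat.ofHom π) ≫ l = a ∧ l ≫ f = b := by
  have h1 := ((Groth.Agent.Flat2H.FSSmoothHom.smooth_iff f).1 inferInstance).2
  let e : A ⧸ RingHom.ker π ≃+* B := RingHom.quotientKerEquivOfSurjective hπ
  have he : (e : A ⧸ RingHom.ker π →+* B).comp (Ideal.Quotient.mk _) = π := by
    ext x
    rfl
  have he' : (e.symm : B →+* A ⧸ RingHom.ker π).comp π = Ideal.Quotient.mk _ := by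
    ext x
    change e.symm (π x) = _
    rw [RingEquiv.symm_apply_eq]
    rfl
  have h2 : Spec.map (CommRingCat.ofHom (e.symm : B →+* A ⧸ RingHom.ker π)) ≫
      Spec.map (CommRingCat.ofHom (e : A ⧸ RingHom.ker π →+* B)) = 𝟙 _ := by
    rw [← Spec.map_comp, ← CommRingCat.ofHom_comp]
    have : (e.symm : B →+* A ⧸ RingHom.ker π).comp (e : A ⧸ RingHom.ker π →+* B) = RingHom.id _ := by
      ext x
      exact e.symm_apply_apply _
    rw [this]
    exact Spec.map_id _
  have h3 : Spec.map (CommRingCat.ofHom (e : A ⧸ RingHom.ker π →+* B)) ≫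
      Spec.map (CommRingCat.ofHom (e.symm : B →+* A ⧸ RingHom.ker π)) = 𝟙 _ := by
    rw [← Spec.map_comp, ← CommRingCat.ofHom_comp]
    have : (e : A ⧸ RingHom.ker π →+* B).comp (e.symm : B →+* A ⧸ RingHom.ker π) = RingHom.id _ := by
      ext x
      exact e.apply_symm_apply x
    rw [this]
    exact Spec.map_id _
  have h4 : Spec.map (CommRingCat.ofHom π) = Spec.map (CommRingCat.ofHom (e : A ⧸ RingHom.ker π →+* B)) ≫
      Spec.map (CommRingCat.ofHom (Ideal.Quotient.mk (RingHom.ker π))) := by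
    rw [← Spec.map_comp, ← CommRingCat.ofHom_comp, he]
  have h5 : Spec.map (CommRingCat.ofHom (Ideal.Quotient.mk (RingHom.ker π))) =
      Spec.map (CommRingCat.ofHom (e.symm : B →+* A ⧸ RingHom.ker π)) ≫ Spec.map (CommRingCat.ofHom π) := by
    rw [← Spec.map_comp, ← CommRingCat.ofHom_comp, he']
  obtain ⟨l, hl1, hl2⟩ := h1 A (RingHom.ker π) hk
    (Spec.map (CommRingCat.ofHom (e.symm : B →+* A ⧸ RingHom.ker π)) ≫ a) b (by
      rw [h5, Category.assoc, h, Category.assoc])
  refine ⟨l, ?_, hl2⟩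
  rw [h4, Category.assoc, hl1, ← Category.assoc, h3, Category.id_comp]

end Groth.Agent.Lefpen.H613.SqLift
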