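import Groth.Agent.Lefpen.H613.TruncPoly
import Groth.Agent.Lefpen.H613.SqLift
import Groth.Agent.Lefpen.H713.Trait2
import Groth.Agent.Vancyc.H694.StdT
import Groth.Agent.Vancyc.H694.Origin
import Mathlib.AlgebraicGeometry.Sites.EtalePoint

/-!
# The constant term of the even model of a smooth total space over a trait is a uniformizer
-/

set_option autoImplicit false
universe u

open CategoryTheory CategoryTheory.Limits AlgebraicGeometry IsLocalRing VanCyc
open Groth.Agent.Vancyc.H694.StdT Groth.Agent.Vancyc.H694.Origin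
open Groth.Agent.Lefpen.H713.RingPt Groth.Agent.Lefpen.H713.Trait1
open Groth.Agent.Lefpen.H613.TruncPoly

namespace Groth.Agent.Lefpen.H613.NotMemCore

section Alg

variable {k R : Type u} [Field k] [CommRing R] {m : ℕ} (a : Fin (2 * m) → Fin (2 * m) → R) (b c : R)

/-- The value of the equation. -/
theorem eval_degQuadPoly [IsLocalRing R] {T : Type u} [CommRing T] (φ : MvPolynomial (Fin (2 * m + 1)) R →+* T)
    (e : T) (he : e ^ 3 = 0) (hz : φ (MvPolynomial.X 0) - e ∈ Ideal.span {e ^ 2})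
    (hx : ∀ i : Fin (2 * m), φ (MvPolynomial.X i.succ) ∈ Ideal.span {e ^ 2})
    (hb : φ (MvPolynomial.C b) ∈ Ideal.span {e ^ 2}) (hc : φ (MvPolynomial.C c) = 0) :
    φ (degQuadPoly R a b c) = e ^ 2 := by
  have he4 : e ^ 4 = 0 := by rw [pow_succ, he, zero_mul]
  obtain ⟨z', hz'⟩ := Ideal.mem_span_singleton.1 hz
  obtain ⟨b', hb'⟩ := Ideal.mem_span_singleton.1 hb
  have hz2 : φ (MvPolynomial.X 0) = e + e ^ 2 * z' := by rw [← hz']; ring
  have hq : φ (MvPolynomial.rename Fin.succ (quadPoly a)) = 0 := by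
    rw [quadPoly, map_sum, map_sum]
    refine Finset.sum_eq_zero fun i _ => ?_
    rw [map_sum, map_sum]
    refine Finset.sum_eq_zero fun j _ => ?_
    split_ifs with hij
    · obtain ⟨xi, hxi⟩ := Ideal.mem_span_singleton.1 (hx i)
      obtain ⟨xj, hxj⟩ := Ideal.mem_span_singleton.1 (hx j)
      simp only [map_mul, MvPolynomial.rename_X, MvPolynomial.rename_C, hxi, hxj]
      have : φ (MvPolynomial.C (a i j)) * (e ^ 2 * xi) * (e ^ 2 * xj) =
        e ^ 4 * (φ (MvPolynomial.C (a i j)) * xi * xj) := by ring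
      rw [this, he4, zero_mul]
    · rw [map_zero, map_zero]
  rw [degQuadPoly, map_add, map_add, map_add, map_mul, map_pow, hq, hc, hz2, hb']
  have : (e + e ^ 2 * z') ^ 2 + e ^ 2 * b' * (e + e ^ 2 * z') + 0 + 0 =
    e ^ 2 + e ^ 3 * (2 * z' + b') + e ^ 4 * (z' ^ 2 + b' * z') := by ring
  rw [this, he, he4]
  ring

end Alg

section Main

variable (k : Type u) [Field k] [IsAlgClosed k] {X' : Scheme.{u}}
    (ρ : X' ⟶ CohB1.ProjSpace 1 k) [Smooth (ρ ≫ CohB1.ProjSpace.toSpec 1 k)]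
    (R : Type u) [CommRing R] [IsDomain R] [IsDiscreteValuationRing R] [Algebra k R] (t : R) (a : k)
    (h : IsTrait k a R t) (m : ℕ) (b c : R) (hb : b ∈ maximalIdeal R) (hc : c ∈ maximalIdeal R)
    (x : (pullback ρ (ringPt k R t) : Scheme.{u}))
    (y : Spec (CommRingCat.of (degQuadRing R (stdT R m) b c)))
    (hy : PrimeSpectrum.asIdeal y = origQ (degQuadPoly R (stdT R m) b c))

omit [IsAlgClosed k] in
include h in
/-- the value at `t` of a homomorphism to a truncated polynomial ring determines the maximal ideal -/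
theorem map_mem {T : Type u} [CommRing T] [Algebra k T] (g : R →ₐ[k] T) (J : Ideal T)
    (hg : g t - algebraMap k T a ∈ J) (r : R) (hr : r ∈ maximalIdeal R) : g r ∈ J := by
  rw [h.maxIdeal, Ideal.mem_span_singleton] at hr
  obtain ⟨s, rfl⟩ := hr
  rw [map_mul, map_sub, g.commutes]
  exact Ideal.mul_mem_right _ _ hg

omit [IsAlgClosed k] in
include h in
theorem map_mem_sq {T : Type u} [CommRing T] [Algebra k T] (g : R →ₐ[k] T) (J : Ideal T)
    (hg : g t - algebraMap k T a ∈ J) (r : R) (hr : r ∈ maximalIdeal R ^ 2) : g r ∈ J ^ 2 := by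
  rw [h.maxIdeal, Ideal.span_singleton_pow, Ideal.mem_span_singleton] at hr
  obtain ⟨s, rfl⟩ := hr
  rw [map_mul, map_pow, map_sub, g.commutes]
  exact Ideal.mul_mem_right _ _ (Ideal.pow_mem_pow hg 2)

include h hb hc hy in
theorem notMem_sq (hce : HasCommonEt (pullback.snd ρ (ringPt k R t)) (modelEven R m b c) x y) :
    c ∉ maximalIdeal R ^ 2 := by
  intro hc2
  obtain ⟨U, p, q, z, hp, hq, hpq, hpz, hqz⟩ := hce
  have H2 := henselian k 2 two_ne_zero
  have H3 := henselian k 3 three_ne_zero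
  -- the homomorphism `R → k → k[ε]/ε²`
  obtain ⟨g₀, hg₀, -⟩ := h.existsUnique k a (by rw [Algebra.algebraMap_self_apply, sub_self]; exact zero_mem _)
  obtain ⟨g₂, hg₂, hu₂⟩ := h.existsUnique (Tr k 2) (algebraMap k _ a) (by rw [sub_self]; exact zero_mem _)
  have hg₂0 : ∀ r ∈ maximalIdeal R, g₂ r = 0 := fun r hr => by
    have := map_mem k R t a h g₂ ⊥ (by rw [hg₂, sub_self]; exact zero_mem _) r hr
    rwa [Ideal.mem_bot] at this
  -- the point of the model
  let F := degQuadPoly R (stdT R m) b c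
  let φ₂ : MvPolynomial (Fin (2 * m + 1)) R →+* Tr k 2 :=
    MvPolynomial.eval₂Hom (g₂ : R →+* Tr k 2) (Fin.cons (eps k 2) fun _ => 0)
  have hφz : φ₂ (MvPolynomial.X 0) = eps k 2 := by
    rw [MvPolynomial.coe_eval₂Hom, MvPolynomial.eval₂_X, Fin.cons_zero]
  have hφx : ∀ i : Fin (2 * m), φ₂ (MvPolynomial.X i.succ) = 0 := fun i => by
    rw [MvPolynomial.coe_eval₂Hom, MvPolynomial.eval₂_X, Fin.cons_succ]
  have hφC : ∀ r : R, φ₂ (MvPolynomial.C r) = g₂ r := fun r => MvPolynomial.eval₂Hom_C _ _ _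
  have hφF : φ₂ F = 0 := by
    have h1 : φ₂ F = eps k 2 ^ 2 := by
      refine eval_degQuadPoly (stdT R m) b c φ₂ (eps k 2) ?_ ?_ ?_ ?_ ?_
      · rw [pow_succ, eps_pow, zero_mul]
      · rw [hφz, sub_self]; exact zero_mem _
      · intro i; rw [hφx]; exact zero_mem _
      · rw [hφC, hg₂0 b hb]; exact zero_mem _
      · rw [hφC, hg₂0 c hc]
    rw [h1, eps_pow]
  let α₂ : degQuadRing R (stdT R m) b c →+* Tr k 2 := Ideal.Quotient.lift _ φ₂ fun r hr => by
    rw [Ideal.mem_span_singleton] at hr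
    obtain ⟨s, rfl⟩ := hr
    rw [map_mul, hφF, zero_mul]
  have hα₂ : ∀ r, α₂ (Ideal.Quotient.mk _ r) = φ₂ r := fun r => rfl
  have hα₂R : α₂.comp (algebraMap R _) = g₂ := by
    ext r
    exact hφC r
  -- the point over `k`
  let π₂ : Tr k 2 →+* k := aug k 2 two_ne_zero
  have hs : (Spec.map (CommRingCat.ofHom (π₂.comp α₂))) default = y := by
    apply PrimeSpectrum.ext
    have hmax : (origQ (degQuadPoly R (stdT R m) b c)).IsMaximal := by
      refine isMaximal_origQ ?_
      have h1 : MvPolynomial.constantCoeff (degQuadPoly R (stdT R m) b c) ∈ maximalIdeal R ↔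
          degQuadPoly R (stdT R m) b c ∈ orig R (Fin (2 * m + 1)) := (mem_orig_iff _).symm
      rw [h1]
      refine Ideal.add_mem _ (Ideal.add_mem _ (Ideal.add_mem _ ?_ ?_) ?_) ?_
      · rw [pow_two]
        exact Ideal.mul_mem_left _ _ (Ideal.mem_sup_right (Ideal.subset_span ⟨0, rfl⟩))
      · exact Ideal.mul_mem_left _ _ (Ideal.mem_sup_right (Ideal.subset_span ⟨0, rfl⟩))
      · exact Ideal.mem_sup_left (Ideal.mem_map_of_mem _ hc)
      · rw [quadPoly, map_sum]
        refine Ideal.sum_mem _ fun i _ => ?_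
        rw [map_sum]
        refine Ideal.sum_mem _ fun j _ => ?_
        split_ifs
        · rw [map_mul, MvPolynomial.rename_X]
          exact Ideal.mul_mem_left _ _ (Ideal.mem_sup_right (Ideal.subset_span ⟨_, rfl⟩))
        · rw [map_zero]; exact zero_mem _
    rw [hy]
    symm
    refine hmax.eq_of_le (Ideal.IsPrime.ne_top (PrimeSpectrum.isPrime _)) ?_
    rw [origQ, Ideal.map_le_iff_le_comap]
    have hd : ∀ w : Spec (CommRingCat.of k), w.asIdeal = ⊥ := fun w => by
      have : w = (⟨⊥, Ideal.isPrime_bot⟩ : PrimeSpectrum k) := Subsingleton.elim (α := PrimeSpectrum k) _ _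
      rw [this]
    change _ ≤ Ideal.comap _ (Ideal.comap (π₂.comp α₂) (default : Spec (CommRingCat.of k)).asIdeal)
    rw [hd]
    refine sup_le ?_ ?_
    · rw [Ideal.map_le_iff_le_comap]
      intro r hr
      change π₂ (α₂ (Ideal.Quotient.mk _ (MvPolynomial.C r))) = 0
      rw [hα₂, hφC, hg₂0 r hr, map_zero]
    · rw [Ideal.span_le]
      rintro _ ⟨i, rfl⟩
      change π₂ (α₂ (Ideal.Quotient.mk _ (MvPolynomial.X i))) = 0
      rw [hα₂]
      refine Fin.cases ?_ (fun i => ?_) i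
      · rw [hφz]; exact aug_eps k 2 two_ne_zero
      · rw [hφx, map_zero]
  -- lift the point over `k`
  obtain ⟨l₀, hl₀, hl₀z⟩ := Scheme.exists_fac_of_etale_of_isSepClosed q
    (Spec.map (CommRingCat.ofHom (π₂.comp α₂))) z (hqz.trans hs.symm)
  -- lift to `k[ε]/ε²`
  obtain ⟨β₂, hβ₂, hβ₂q⟩ := SqLift.exists_lift q π₂ (aug_surjective k 2 two_ne_zero)
    (ker_aug_sq k) l₀ (Spec.map (CommRingCat.ofHom α₂)) (by
      rw [hl₀, ← Spec.map_comp, ← CommRingCat.ofHom_comp])
  have hβ₂R : β₂ ≫ p ≫ pullback.snd ρ (ringPt k R t) = Spec.map (CommRingCat.ofHom (g₂ : R →+* Tr k 2)) := by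
    rw [hpq, ← Category.assoc, hβ₂q, ← Spec.map_comp, ← CommRingCat.ofHom_comp, hα₂R]
  have hβ₂ρ : (β₂ ≫ p ≫ pullback.fst ρ (ringPt k R t)) ≫ ρ = ringPt k (Tr k 2) (algebraMap k _ a) := by
    rw [Category.assoc, Category.assoc, pullback.condition, ← Category.assoc, ← Category.assoc,
      Category.assoc β₂, hβ₂R, map_ringPt k (g₂ : R →+* Tr k 2) g₂.comp_algebraMap]
    congr 1
  -- lift to `k[ε]/ε³` in `X'`
  let π : Tr k 3 →+* Tr k 2 := red k
  have hπk : π.comp (algebraMap k (Tr k 3)) = algebraMap k (Tr k 2) := (red k).comp_algebraMap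
  obtain ⟨γ₃, hγ₃, hγ₃k⟩ := SqLift.exists_lift (ρ ≫ CohB1.ProjSpace.toSpec 1 k) π (red_surjective k)
    (ker_red_sq k) (β₂ ≫ p ≫ pullback.fst ρ (ringPt k R t))
    (Spec.map (CommRingCat.ofHom (algebraMap k (Tr k 3)))) (by
      rw [← Category.assoc _ ρ, hβ₂ρ, ringPt_toSpec, ← Spec.map_comp, ← CommRingCat.ofHom_comp, hπk])
  have hcl : Spec.map (CommRingCat.ofHom π) (closedPoint (Tr k 2)) = closedPoint (Tr k 3) := by
    have : IsLocalHom π := by
      constructor
      intro x hx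
      by_contra hx'
      have h1 : x ∈ maximalIdeal (Tr k 3) := hx'
      rw [maximalIdeal_eq k 3 three_ne_zero, Ideal.mem_span_singleton] at h1
      obtain ⟨x', rfl⟩ := h1
      rw [map_mul] at hx
      have h2 := isUnit_of_mul_isUnit_left hx
      have h3 : π (eps k 3) ∈ maximalIdeal (Tr k 2) := by
        rw [maximalIdeal_eq k 2 two_ne_zero]
        exact Ideal.mem_span_singleton_self _
      exact h3 h2
    exact IsLocalRing.comap_closedPoint π
  let c₂ : Spec (CommRingCat.of (Tr k 2)) := closedPoint (Tr k 2)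
  let c₃ : Spec (CommRingCat.of (Tr k 3)) := closedPoint (Tr k 3)
  have hcl' : Spec.map (CommRingCat.ofHom π) c₂ = c₃ := hcl
  have hc₃ : (γ₃ ≫ ρ) c₃ = ringPt k (Tr k 2) (algebraMap k _ a) c₂ := by
    rw [← hcl', ← Scheme.Hom.comp_apply, ← Category.assoc, hγ₃, hβ₂ρ]
  let i0 : Algebra k (Tr k 3) := inferInstance
  obtain ⟨alg', s, hs'⟩ := exists_ringPt k (γ₃ ≫ ρ) (by
    change (γ₃ ≫ ρ) c₃ ∈ _
    rw [hc₃, ringPt, Scheme.Hom.comp_apply]
    exact ⟨_, rfl⟩)
  have halg : alg' = i0 := by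
    apply Algebra.algebra_ext
    intro r
    have h1 : Spec.map (CommRingCat.ofHom (@algebraMap k (Tr k 3) _ _ alg')) =
        Spec.map (CommRingCat.ofHom (@algebraMap k (Tr k 3) _ _ i0)) := by
      rw [← @ringPt_toSpec k _ (Tr k 3) _ alg' s, ← hs', Category.assoc, hγ₃k]
    have h2 := congrArg CommRingCat.Hom.hom (Spec.map_injective h1)
    exact congrArg (fun f => f r) h2
  subst halg
  have hπs : π s = algebraMap k _ a := by
    apply ringPt_inj (k := k)
    rw [← map_ringPt k π hπk, ← hs', ← Category.assoc, hγ₃, hβ₂ρ]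
  have hsa : s - algebraMap k _ a ∈ RingHom.ker π := by
    rw [RingHom.mem_ker, map_sub, hπs]
    exact sub_eq_zero.2 (congrArg (fun f => f a) hπk).symm
  have hker : RingHom.ker π = Ideal.span {eps k 3 ^ 2} := ker_red k
  have hsm : s - algebraMap k _ a ∈ maximalIdeal (Tr k 3) := by
    rw [maximalIdeal_eq k 3 three_ne_zero]
    rw [hker, Ideal.mem_span_singleton] at hsa
    obtain ⟨s', hs''⟩ := hsa
    rw [hs'', pow_two, mul_assoc]
    exact Ideal.mul_mem_right _ _ (Ideal.mem_span_singleton_self _)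
  obtain ⟨g₃, hg₃, -⟩ := h.existsUnique (Tr k 3) s hsm
  have hg₃2 : (red k).comp g₃ = g₂ := hu₂ _ (by
    change red k (g₃ t) = _
    rw [hg₃]
    exact hπs)
  have hg₃2' : π.comp (g₃ : R →+* Tr k 3) = g₂ := by rw [← hg₃2]; rfl
  -- the point of the pull-back
  let δ₃ : Spec (CommRingCat.of (Tr k 3)) ⟶ pullback ρ (ringPt k R t) :=
    pullback.lift γ₃ (Spec.map (CommRingCat.ofHom (g₃ : R →+* Tr k 3))) (by
      rw [map_ringPt k (g₃ : R →+* Tr k 3) g₃.comp_algebraMap, hs']
      exact congrArg _ hg₃.symm)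
  have hδ₃ : Spec.map (CommRingCat.ofHom π) ≫ δ₃ = β₂ ≫ p := by
    apply pullback.hom_ext
    · rw [Category.assoc, pullback.lift_fst, hγ₃, Category.assoc]
    · rw [Category.assoc, pullback.lift_snd, Category.assoc, hβ₂R, ← Spec.map_comp,
        ← CommRingCat.ofHom_comp, hg₃2']
  obtain ⟨ε₃, hε₃, hε₃p⟩ := SqLift.exists_lift p π (red_surjective k) (ker_red_sq k) β₂ δ₃ hδ₃
  -- the point of the model
  obtain ⟨ψ, hψ⟩ : ∃ ψ : degQuadRing R (stdT R m) b c →+* Tr k 3,
      Spec.map (CommRingCat.ofHom ψ) = ε₃ ≫ q := ⟨(Spec.preimage (ε₃ ≫ q)).hom, Spec.map_preimage _⟩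
  have hψ₂ : π.comp ψ = α₂ := by
    have h1 : Spec.map (CommRingCat.ofHom (π.comp ψ)) = Spec.map (CommRingCat.ofHom α₂) := by
      rw [CommRingCat.ofHom_comp, Spec.map_comp, hψ, ← Category.assoc, hε₃, hβ₂q]
    exact congrArg CommRingCat.Hom.hom (Spec.map_injective h1)
  have hψR : ψ.comp (algebraMap R _) = g₃ := by
    have h1 : Spec.map (CommRingCat.ofHom (ψ.comp (algebraMap R _))) =
        Spec.map (CommRingCat.ofHom (g₃ : R →+* Tr k 3)) := by
      rw [CommRingCat.ofHom_comp, Spec.map_comp, hψ, Category.assoc]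
      change ε₃ ≫ q ≫ modelEven R m b c = _
      rw [← hpq, ← Category.assoc, hε₃p, pullback.lift_snd]
    exact congrArg CommRingCat.Hom.hom (Spec.map_injective h1)
  have hψR' : ∀ r : R, ψ (Ideal.Quotient.mk _ (MvPolynomial.C r)) = g₃ r := fun r =>
    congrArg (fun f => f r) hψR
  have hψ₂' : ∀ r, π (ψ (Ideal.Quotient.mk _ r)) = φ₂ r := fun r =>
    congrArg (fun f => f (Ideal.Quotient.mk _ r)) hψ₂
  have hg₃b : g₃ t - algebraMap k _ a ∈ Ideal.span {eps k 3 ^ 2} := by
    rw [hg₃, ← hker]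
    exact hsa
  have key := eval_degQuadPoly (stdT R m) b c (ψ.comp (Ideal.Quotient.mk _)) (eps k 3) (eps_pow k 3)
    (by
      rw [← hker, RingHom.mem_ker, map_sub, RingHom.comp_apply, hψ₂', hφz]
      exact sub_self _)
    (fun i => by
      rw [← hker, RingHom.mem_ker, RingHom.comp_apply, hψ₂', hφx])
    (by
      rw [RingHom.comp_apply, hψR']
      exact map_mem k R t a h g₃ _ hg₃b b hb)
    (by
      rw [RingHom.comp_apply, hψR']
      have h1 := map_mem_sq k R t a h g₃ _ hg₃b c hc2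
      rw [Ideal.span_singleton_pow, ← pow_mul] at h1
      have h2 : eps k 3 ^ (2 * 2) = 0 := by
        have : eps k 3 ^ (2 * 2) = eps k 3 ^ 3 * eps k 3 := by ring
        rw [this, eps_pow, zero_mul]
      rw [h2, Ideal.span_singleton_eq_bot.2 rfl, Ideal.mem_bot] at h1
      exact h1)
  apply eps_sq_ne k
  rw [← key, RingHom.comp_apply]
  have : Ideal.Quotient.mk (Ideal.span {degQuadPoly R (stdT R m) b c})
      (degQuadPoly R (stdT R m) b c) = 0 :=
    Ideal.Quotient.eq_zero_iff_mem.2 (Ideal.mem_span_singleton_self _)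
  rw [this, map_zero]

end Main

end Groth.Agent.Lefpen.H613.NotMemCore
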