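import Groth.Agent.Lefpen.H613.NotMemCore
import Groth.Agent.Lefpen.H370.TraitGeo

/-!
# The constant term of the even model is a uniformizer (form for `XR`, `fR`)
-/

set_option autoImplicit false
universe u

open CategoryTheory CategoryTheory.Limits AlgebraicGeometry IsLocalRing VanCyc
open Groth.Agent.Vancyc.H694.StdT Groth.Agent.Vancyc.H694.Origin
open Groth.Agent.Lefpen.H713.Trait1 Groth.Agent.Lefpen.H370.TraitGeo

namespace Groth.Agent.Lefpen.H613.NotMemSq

/-- (U) of S4043: if the total space is smooth over `k`, the constant term of the even model at an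
ordinary quadratic point of the pencil over the trait is not in the square of the maximal ideal. -/
theorem notMem_sq (k : Type u) [Field k] [IsAlgClosed k] {X' : Scheme.{u}}
    (ρ : X' ⟶ CohB1.ProjSpace 1 k) [Smooth (ρ ≫ CohB1.ProjSpace.toSpec 1 k)]
    (R : Type u) [CommRing R] [IsDomain R] [IsDiscreteValuationRing R] [Algebra k R] (t : R) (a : k)
    (h : IsTrait k a R t) (m : ℕ) (b c : R) (hb : b ∈ maximalIdeal R) (hc : c ∈ maximalIdeal R)
    (x : XR ρ R t) (y : Spec (CommRingCat.of (degQuadRing R (stdT R m) b c)))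
    (hy : PrimeSpectrum.asIdeal y = origQ (degQuadPoly R (stdT R m) b c))
    (hce : HasCommonEt (fR ρ R t) (modelEven R m b c) x y) : c ∉ maximalIdeal R ^ 2 :=
  NotMemCore.notMem_sq k ρ R t a h m b c hb hc x y hy hce

end Groth.Agent.Lefpen.H613.NotMemSq
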