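import Groth.Agent.S0527
import Mathlib.RingTheory.Henselian
import Mathlib.Algebra.Polynomial.AlgebraMap
import Mathlib.RingTheory.Ideal.Quotient.Operations
import Mathlib.Algebra.Polynomial.Div

/-!
# Truncated polynomial rings `k[ε]/(ε^n)`
-/

set_option autoImplicit false
universe u

open IsLocalRing

namespace Groth.Agent.Lefpen.H613.TruncPoly

variable (k : Type u) [Field k] (n : ℕ)

/-- The truncated polynomial ring. -/
abbrev Tr : Type u := Polynomial k ⧸ Ideal.span {(Polynomial.X : Polynomial k) ^ n}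

/-- The generator. -/
noncomputable def eps : Tr k n := Ideal.Quotient.mk _ Polynomial.X

theorem eps_pow : eps k n ^ n = 0 := by
  rw [eps, ← map_pow, Ideal.Quotient.eq_zero_iff_mem]
  exact Ideal.mem_span_singleton_self _

theorem eps_sq_ne : eps k 3 ^ 2 ≠ 0 := by
  intro h
  rw [eps, ← map_pow, Ideal.Quotient.eq_zero_iff_mem, Ideal.mem_span_singleton] at h
  obtain ⟨p, hp⟩ := h
  have h1 := congrArg (fun q => Polynomial.coeff q 2) hp
  simp only [Polynomial.coeff_X_pow, Polynomial.coeff_X_pow_mul'] at h1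
  norm_num at h1

/-- The augmentation. -/
noncomputable def aug (hn : n ≠ 0) : Tr k n →ₐ[k] k :=
  Ideal.Quotient.liftₐ _ (Polynomial.aeval (0 : k)) fun a ha => by
    rw [Ideal.mem_span_singleton] at ha
    obtain ⟨p, rfl⟩ := ha
    rw [map_mul, map_pow, Polynomial.aeval_X, zero_pow hn, zero_mul]

theorem aug_mk (hn : n ≠ 0) (p : Polynomial k) :
    aug k n hn (Ideal.Quotient.mk _ p) = Polynomial.aeval (0 : k) p := rfl

theorem aug_eps (hn : n ≠ 0) : aug k n hn (eps k n) = 0 := by
  rw [eps, aug_mk, Polynomial.aeval_X]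

theorem aug_surjective (hn : n ≠ 0) : Function.Surjective (aug k n hn) := fun a =>
  ⟨algebraMap k _ a, (aug k n hn).commutes a⟩

theorem ker_aug (hn : n ≠ 0) : RingHom.ker (aug k n hn) = Ideal.span {eps k n} := by
  apply le_antisymm
  · intro x hx
    obtain ⟨p, rfl⟩ := Ideal.Quotient.mk_surjective x
    rw [RingHom.mem_ker, aug_mk, Polynomial.aeval_def, Polynomial.eval₂_at_zero] at hx
    have h1 : p.coeff 0 = 0 := by simpa using hx
    obtain ⟨q, rfl⟩ := Polynomial.X_dvd_iff.2 h1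
    rw [map_mul]
    exact Ideal.mul_mem_right _ _ (Ideal.subset_span rfl)
  · rw [Ideal.span_le, Set.singleton_subset_iff]
    exact aug_eps k n hn

theorem henselian (hn : n ≠ 0) : HenselianLocalRing (Tr k n) := by
  have hm : (RingHom.ker (aug k n hn)).IsMaximal :=
    RingHom.ker_isMaximal_of_surjective _ (aug_surjective k n hn)
  have hr : (RingHom.ker (aug k n hn)) ^ n = ⊥ := by
    rw [ker_aug, Ideal.span_singleton_pow, eps_pow, Ideal.span_singleton_eq_bot]
  have hloc : IsLocalRing (Tr k n) := by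
    refine IsLocalRing.of_unique_max_ideal ⟨RingHom.ker (aug k n hn), hm, fun m' hm' => ?_⟩
    have h1 : (RingHom.ker (aug k n hn)) ^ n ≤ m' := hr ▸ bot_le
    exact (hm.eq_of_le hm'.ne_top (hm'.isPrime.le_of_pow_le h1)).symm
  have hm' : maximalIdeal (Tr k n) = RingHom.ker (aug k n hn) := (IsLocalRing.eq_maximalIdeal hm).symm
  have h5 : HenselianRing (Tr k n) (maximalIdeal (Tr k n)) := Groth.Agent.S0527.result _ _ fun x hx => by
    rw [hm'] at hx
    refine ⟨n, ?_⟩
    have := Ideal.pow_mem_pow hx n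
    rwa [hr, Ideal.mem_bot] at this
  exact ⟨fun f hf a₀ h6 h7 ↦ h5.is_henselian f hf a₀ h6 (h7.map _)⟩

theorem maximalIdeal_eq (hn : n ≠ 0) [IsLocalRing (Tr k n)] :
    maximalIdeal (Tr k n) = Ideal.span {eps k n} := by
  have hm : (RingHom.ker (aug k n hn)).IsMaximal :=
    RingHom.ker_isMaximal_of_surjective _ (aug_surjective k n hn)
  rw [← ker_aug k n hn, (IsLocalRing.eq_maximalIdeal hm)]

/-- The reduction `k[ε]/(ε³) → k[ε]/(ε²)`. -/
noncomputable def red : Tr k 3 →ₐ[k] Tr k 2 :=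
  Ideal.Quotient.liftₐ _ (Ideal.Quotient.mkₐ k _) fun a ha => by
    rw [Ideal.mem_span_singleton] at ha
    obtain ⟨p, rfl⟩ := ha
    change Ideal.Quotient.mk _ _ = 0
    rw [Ideal.Quotient.eq_zero_iff_mem, Ideal.mem_span_singleton]
    exact ⟨Polynomial.X * p, by ring⟩

theorem red_mk (p : Polynomial k) : red k (Ideal.Quotient.mk _ p) = Ideal.Quotient.mk _ p := rfl

theorem red_eps : red k (eps k 3) = eps k 2 := rfl

theorem red_surjective : Function.Surjective (red k) := by
  intro x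
  obtain ⟨p, rfl⟩ := Ideal.Quotient.mk_surjective x
  exact ⟨Ideal.Quotient.mk _ p, rfl⟩

theorem ker_red : RingHom.ker (red k) = Ideal.span {eps k 3 ^ 2} := by
  apply le_antisymm
  · intro x hx
    obtain ⟨p, rfl⟩ := Ideal.Quotient.mk_surjective x
    rw [RingHom.mem_ker, red_mk, Ideal.Quotient.eq_zero_iff_mem, Ideal.mem_span_singleton] at hx
    obtain ⟨q, rfl⟩ := hx
    rw [map_mul, map_pow]
    exact Ideal.mul_mem_right _ _ (Ideal.subset_span rfl)
  · rw [Ideal.span_le, Set.singleton_subset_iff]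
    change red k (eps k 3 ^ 2) = 0
    rw [map_pow, red_eps, eps_pow]

theorem ker_red_sq : RingHom.ker (red k) ^ 2 = ⊥ := by
  rw [ker_red, Ideal.span_singleton_pow, Ideal.span_singleton_eq_bot, ← pow_mul]
  have h : eps k 3 ^ (2 * 2) = eps k 3 ^ 3 * eps k 3 := by ring
  rw [h, eps_pow, zero_mul]

theorem ker_aug_sq : RingHom.ker (aug k 2 two_ne_zero) ^ 2 = ⊥ := by
  rw [ker_aug, Ideal.span_singleton_pow, Ideal.span_singleton_eq_bot, eps_pow]

end Groth.Agent.Lefpen.H613.TruncPoly
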